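import Groth.Agent.L10.InjTA
import Mathlib.CategoryTheory.Limits.Preserves.Shapes.Pullbacks
import Mathlib.CategoryTheory.Limits.Shapes.Pullback.IsPullback.Basic

/-! Functors preserving fibre products preserve Čech nerves; inverse images along cocontinuous functors. -/

universe v u

open CategoryTheory CategoryTheory.Limits Opposite

set_option backward.defeqAttrib.useBackward true
set_option backward.isDefEq.respectTransparency false

namespace Groth.L10.NerveFib

open Groth.L10.Nerve

section General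

variable {E E' : Type*} [Category.{v} E] [Category.{v} E'] [HasFiniteWidePullbacks E] [HasFiniteWidePullbacks E']
  {K' K : E} (f : K' ⟶ K) (G : E ⥤ E') [PreservesLimitsOfShape WalkingCospan G]

theorem isPullback_succ (n : ℕ) : IsPullback (δ f (Fin.last (n+1))) (pr f (Fin.last (n+1))) (bs f n) f := by
  have w : δ f (Fin.last (n+1)) ≫ bs f n = pr f (Fin.last (n+1)) ≫ f := by rw [δ_bs, pr_w]
  refine ⟨⟨w⟩, ⟨PullbackCone.isLimitAux' _ fun s => ?_⟩⟩
  let x : s.pt ⟶ N f (n+1) := WidePullback.lift (s.fst ≫ bs f n)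
    (Fin.snoc (fun i => s.fst ≫ pr f i) s.snd : Fin (n+2) → (s.pt ⟶ K'))
    (fun j => Fin.lastCases (by rw [Fin.snoc_last]; exact s.condition.symm)
      (fun i => by rw [Fin.snoc_castSucc, Category.assoc]; exact congrArg (s.fst ≫ ·) (pr_w f i)) j)
  have hx : ∀ j, x ≫ pr f j = (Fin.snoc (fun i => s.fst ≫ pr f i) s.snd : Fin (n+2) → (s.pt ⟶ K')) j := fun j =>
    WidePullback.lift_π _ _ _ _ _
  refine ⟨x, Nerve.hom_ext f fun i => ?_, (hx _).trans (Fin.snoc_last _ _), fun {m} h1 h2 => Nerve.hom_ext f fun j => ?_⟩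
  · show (x ≫ δ f _) ≫ pr f i = s.fst ≫ pr f i
    rw [Category.assoc, δ_pr, hx, Fin.succAbove_last, Fin.snoc_castSucc]
  · rw [hx]
    refine Fin.lastCases ?_ (fun i => ?_) j
    · rw [Fin.snoc_last]; exact h2
    · rw [Fin.snoc_castSucc]
      change m ≫ pr f i.castSucc = s.fst ≫ pr f i
      rw [← Fin.succAbove_last, ← δ_pr, ← Category.assoc]
      exact congrArg (· ≫ pr f i) h1

theorem existsUnique_lift : ∀ (n : ℕ) {Q : E'} (v : Q ⟶ G.obj K) (p : Fin (n+1) → (Q ⟶ G.obj K')),
    (∀ i, p i ≫ G.map f = v) → ∃! x : Q ⟶ G.obj (N f n), ∀ i, x ≫ G.map (pr f i) = p i := by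
  intro n
  induction n with
  | zero =>
    intro Q v p hp
    let s : K' ⟶ N f 0 := WidePullback.lift f (fun _ => 𝟙 K') (fun _ => Category.id_comp f)
    have h1 : s ≫ pr f 0 = 𝟙 K' := WidePullback.lift_π _ _ _ _ _
    have h2 : pr f 0 ≫ s = 𝟙 (N f 0) := Nerve.hom_ext f fun i => by
      obtain rfl : i = 0 := Subsingleton.elim (α := Fin 1) i 0
      rw [Category.assoc, h1, Category.comp_id, Category.id_comp]
    refine ⟨p 0 ≫ G.map s, fun i => ?_, fun y hy => ?_⟩
    · obtain rfl : i = 0 := Subsingleton.elim (α := Fin 1) i 0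
      rw [Category.assoc, ← G.map_comp, h1, G.map_id, Category.comp_id]
    · rw [← hy 0, Category.assoc, ← G.map_comp, h2, G.map_id, Category.comp_id]
  | succ n ih =>
    intro Q v p hp
    obtain ⟨a, ha, hau⟩ := ih v (fun i => p i.castSucc) fun i => hp _
    have P := (isPullback_succ f n).map G
    have w : a ≫ G.map (bs f n) = p (Fin.last (n+1)) ≫ G.map f := by
      rw [hp, ← pr_w f 0, G.map_comp, ← Category.assoc, ha 0, hp]
    have e : ∀ i, G.map (δ f (Fin.last (n+1))) ≫ G.map (pr f i) = G.map (pr f i.castSucc) := fun i => by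
      rw [← G.map_comp, δ_pr, Fin.succAbove_last]
    refine ⟨P.lift a _ w, fun i => ?_, fun y hy => P.hom_ext ?_ ?_⟩
    · induction i using Fin.lastCases with
      | last => exact P.lift_snd _ _ _
      | cast i => rw [← e, ← Category.assoc, P.lift_fst, ha]
    · rw [P.lift_fst]
      exact hau _ fun i => by rw [Category.assoc, e]; exact hy _
    · rw [P.lift_snd]; exact hy _

theorem hom_ext_G {n : ℕ} {Q : E'} {a b : Q ⟶ G.obj (N f n)} (h : ∀ i, a ≫ G.map (pr f i) = b ≫ G.map (pr f i)) :
    a = b :=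
  (existsUnique_lift f G n (a ≫ G.map (bs f n)) (fun i => a ≫ G.map (pr f i))
    (fun i => by rw [Category.assoc, ← G.map_comp, pr_w])).unique (fun _ => rfl) fun i => (h i).symm

/-- the nerve of the image -/
theorem exists_iso (n : ℕ) :
    ∃ φ : N (G.map f) n ≅ G.obj (N f n), ∀ i, φ.hom ≫ G.map (pr f i) = pr (G.map f) i := by
  obtain ⟨φ, hφ, -⟩ := existsUnique_lift f G n (bs (G.map f) n) (fun i => pr (G.map f) i) fun i => pr_w (G.map f) i
  let ψ : G.obj (N f n) ⟶ N (G.map f) n := WidePullback.lift (G.map (bs f n)) (fun i => G.map (pr f i))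
    (fun i => (G.map_comp _ _).symm.trans (congrArg G.map (pr_w f i)))
  have hψ : ∀ i, ψ ≫ pr (G.map f) i = G.map (pr f i) := fun i => WidePullback.lift_π _ _ _ _ _
  exact ⟨⟨φ, ψ, Nerve.hom_ext (G.map f) fun i => by rw [Category.assoc, hψ, hφ, Category.id_comp],
    hom_ext_G f G fun i => by rw [Category.assoc, hφ, hψ, Category.id_comp]⟩, hφ⟩

/-- the chosen isomorphism -/
noncomputable def iso (n : ℕ) : N (G.map f) n ≅ G.obj (N f n) := (exists_iso f G n).choose

theorem iso_pr (n : ℕ) (i : Fin (n+1)) : (iso f G n).hom ≫ G.map (pr f i) = pr (G.map f) i :=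
  (exists_iso f G n).choose_spec i

theorem iso_δ (n : ℕ) (j : Fin (n+2)) : (iso f G (n+1)).hom ≫ G.map (δ f j) = δ (G.map f) j ≫ (iso f G n).hom :=
  hom_ext_G f G fun i => by
    rw [Category.assoc, Category.assoc, ← G.map_comp, δ_pr, iso_pr, iso_pr, δ_pr]

end General

open Groth.L10.SiteFr Groth.L10.InjTA

theorem cechAcyclic_toAb {C : Type u} [SmallCategory C] {J : GrothendieckTopology C} (O : Sheaf J CommRingCat.{u})
    (G : ModSite.Mod O) [Injective G] : CechAcyclic (ModSite.toAb G) := fun K' K f _ n z hz => by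
  have := Groth.L17.HomAcyclic.shf_preservesFiniteLimits O
  have h0 : (Groth.L00.ModSiteTensor.shf O).map (D O f (n+1)) ≫ homEquiv O G _ z = 0 := by
    rw [← homEquiv_d, hz, map_zero]
  have he := (exact_D O f n).map (Groth.L00.ModSiteTensor.shf O)
  refine ⟨(homEquiv O G _).symm (he.descToInjective _ h0), ?_⟩
  apply (homEquiv O G (Nerve.N f (n+1))).injective
  rw [homEquiv_d, AddEquiv.apply_symm_apply]
  exact he.comp_descToInjective _ h0

variable {C D : Type u} [SmallCategory C] [SmallCategory D] (J : GrothendieckTopology C) {K : GrothendieckTopology D}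
  (u : C ⥤ D) [u.IsContinuous J K]

/-- maps out of free sheaves into an inverse image -/
noncomputable def transfer (X : Sheaf J (Type u)) (F : Sheaf K AddCommGrpCat.{u}) :
    ((fr J).obj X ⟶ (CohSite.push K J u).obj F) ≃+ ((fr K).obj ((pullT (J := K) J u).obj X) ⟶ F) where
  toFun z := ((adj K).homEquiv _ _).symm (tr J u ((adj J).homEquiv _ _ z))
  invFun w := ((adj J).homEquiv _ _).symm (untr J u ((adj K).homEquiv _ _ w))
  left_inv z := by dsimp only; rw [Equiv.apply_symm_apply, untr_tr, Equiv.symm_apply_apply]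
  right_inv w := by dsimp only; rw [Equiv.apply_symm_apply, tr_untr, Equiv.symm_apply_apply]
  map_add' a b := by
    apply ((adj K).homEquiv _ _).injective
    rw [adj_homEquiv_add, adj_homEquiv_add, tr_addHom, Equiv.apply_symm_apply, Equiv.apply_symm_apply,
      Equiv.apply_symm_apply]

theorem transfer_comp {X X' : Sheaf J (Type u)} {F : Sheaf K AddCommGrpCat.{u}} (c : X' ⟶ X)
    (z : (fr J).obj X ⟶ (CohSite.push K J u).obj F) :
    transfer J u X' F ((fr J).map c ≫ z) = (fr K).map ((pullT (J := K) J u).map c) ≫ transfer J u X F z := by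
  show ((adj K).homEquiv _ _).symm (tr J u ((adj J).homEquiv _ _ ((fr J).map c ≫ z))) = _
  rw [Adjunction.homEquiv_naturality_left, tr_comp, Adjunction.homEquiv_naturality_left_symm]
  rfl

variable [PreservesLimitsOfShape WalkingCospan (pullT (J := K) J u)]

/-- inverse images of Čech acyclic sheaves -/
theorem cechAcyclic_push {F : Sheaf K AddCommGrpCat.{u}} (hF : CechAcyclic F) :
    CechAcyclic ((CohSite.push K J u).obj F) := fun K' L f hf n z hz => by
  let G := pullT (J := K) J u
  haveI : G.IsLeftAdjoint := (u.sheafAdjunctionContinuous (Type u) J K).isLeftAdjoint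
  have hG : Epi (G.map f) := inferInstance
  let Φ : ∀ m, ((fr J).obj (N f m) ⟶ (CohSite.push K J u).obj F) ≃+ ((fr K).obj (N (G.map f) m) ⟶ F) := fun m =>
    { toFun := fun w => (fr K).map (iso f G m).hom ≫ transfer J u _ F w
      invFun := fun w => (transfer J u _ F).symm ((fr K).map (iso f G m).inv ≫ w)
      left_inv := fun w => by
        dsimp only
        rw [← Category.assoc, ← Functor.map_comp, Iso.inv_hom_id, CategoryTheory.Functor.map_id, Category.id_comp,
          AddEquiv.symm_apply_apply]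
      right_inv := fun w => by
        dsimp only
        rw [AddEquiv.apply_symm_apply, ← Category.assoc, ← Functor.map_comp, Iso.hom_inv_id,
          CategoryTheory.Functor.map_id, Category.id_comp]
      map_add' := fun a b => by rw [map_add, Preadditive.comp_add] }
  have hΦ : ∀ m (w : (fr J).obj (N f m) ⟶ (CohSite.push K J u).obj F),
      Φ (m+1) (d f m ≫ w) = d (G.map f) m ≫ Φ m w := fun m w => by
    show (fr K).map (iso f G (m+1)).hom ≫ transfer J u _ F (d f m ≫ w) =
      d (G.map f) m ≫ (fr K).map (iso f G m).hom ≫ transfer J u _ F w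
    rw [d, d, Preadditive.sum_comp, map_sum, Preadditive.comp_sum, Preadditive.sum_comp]
    refine Finset.sum_congr rfl fun j _ => ?_
    rw [Preadditive.zsmul_comp, map_zsmul, Preadditive.comp_zsmul, Preadditive.zsmul_comp, transfer_comp]
    rw [← Category.assoc, ← Functor.map_comp, ← Category.assoc, ← Functor.map_comp]
    exact congrArg (fun r => ((-1 : ℤ) ^ (j : ℕ)) • ((fr K).map r ≫ _)) (iso_δ f G m j)
  obtain ⟨w, hw⟩ := hF (G.map f) hG n (Φ (n+1) z) (by rw [← hΦ, hz, map_zero])
  refine ⟨(Φ n).symm w, (Φ (n+1)).injective ?_⟩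
  rw [hΦ, AddEquiv.apply_symm_apply, hw]

end Groth.L10.NerveFib
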